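import Groth.Agent.L28.CurveCd.UDDim
import Groth.Agent.L28.FieldTower.Base
import Groth.Agent.L28.Divisor.Sky

/-! # Removing one point from the support of a torsion sheaf -/

set_option autoImplicit false
set_option linter.style.haveILetI false
set_option linter.unusedSectionVars false
set_option backward.isDefEq.respectTransparency.types false

universe u

open CategoryTheory CategoryTheory.Limits AlgebraicGeometry Opposite

noncomputable section

namespace Groth.L28.DimFun

open Groth.L27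

variable {X : Scheme.{u}} {L : Set ℕ}

theorem app_injective_of_mono {F G : EtCoh.Ab X} (v : F ⟶ G) [Mono v] (U : X.Etale) :
    Function.Injective (v.hom.app (op U)) :=
  (AddCommGrpCat.mono_iff_injective _).1 (inferInstanceAs (Mono ((Supp.secAt U).map v)))

theorem isLTorsion_of_mono {F G : EtCoh.Ab X} (v : F ⟶ G) [Mono v] (hG : EtAcyc.IsLTorsion L G) :
    EtAcyc.IsLTorsion L F := fun U s x => by
  obtain ⟨V, g, m, hv, hm, h⟩ := hG U (v.hom.app (op U) s) x
  refine ⟨V, g, m, hv, hm, app_injective_of_mono v V ?_⟩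
  refine ((v.hom.app (op V)).hom.map_nsmul m _).trans ?_
  refine Eq.trans (congrArg (m • ·) (NatTrans.naturality_apply v.hom g.op s)) ?_
  exact h.trans (map_zero _).symm

/-- The vanishing of the stalk at a geometric point only depends on the point. -/
theorem isZero_stalk_of_base {F : EtCoh.Ab X} {Ω : Type u} [Field Ω] [IsSepClosed Ω]
    (ξ : Spec (CommRingCat.of Ω) ⟶ X) {Ω' : Type u} [Field Ω'] [IsSepClosed Ω']
    (ξ' : Spec (CommRingCat.of Ω') ⟶ X) (he : ξ'.base default = ξ.base default)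
    (h : IsZero ((EtCoh.stalk ξ).obj F)) : IsZero ((EtCoh.stalk ξ').obj F) := by
  haveI hs : Subsingleton ((EtCoh.stalk ξ).obj F) := AddCommGrpCat.subsingleton_of_isZero h
  have : Subsingleton ((EtCoh.stalk ξ').obj F) := ⟨fun p q => by
    obtain ⟨V, y, s, t, rfl, rfl⟩ := (Scheme.pointSmallEtale ξ').toPresheafFiber_jointly_surjective₂ p q
    obtain ⟨y₀, hy₀⟩ := EtSite.exists_fiber ξ V (y.left.base (default : Spec (CommRingCat.of Ω')))
      ((EtSite.fiber_apply y).trans he)
    obtain ⟨W, g, w₀, hw₀, hst⟩ :=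
      ((Scheme.pointSmallEtale ξ).toPresheafFiber_eq_iff' (P := F.obj) V y₀ s t).1 (@Subsingleton.elim ((EtCoh.stalk ξ).obj F) hs _ _)
    haveI : AlgebraicGeometry.Etale g.left := EtSite.etale_left g
    let W' : V.left.Etale := Scheme.Etale.mk g.left
    obtain ⟨z, -⟩ := EtSite.exists_fiber y.left W' (w₀.left.base (default : Spec (CommRingCat.of Ω))) (by
      show g.left.base (w₀.left.base (default : Spec (CommRingCat.of Ω))) = y.left.base (default : Spec (CommRingCat.of Ω'))
      rw [← hy₀, ← hw₀]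
      exact (Scheme.Hom.comp_apply _ _ _).symm)
    let y' : (Scheme.pointSmallEtale ξ').fiber.obj W := Over.homMk z.left (by
      show z.left ≫ W.hom = ξ'
      rw [← MorphismProperty.Over.w g]
      refine ((Category.assoc _ _ _).symm.trans ?_).trans (Over.w y)
      exact congrArg (· ≫ V.hom) (Over.w z))
    exact ((Scheme.pointSmallEtale ξ').toPresheafFiber_eq_iff' (P := F.obj) V y s t).2
      ⟨W, g, y', Over.OverMorphism.ext (Over.w z), hst⟩⟩
  exact AddCommGrpCat.isZero_of_subsingleton _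

theorem not_isZero_stalk {F : EtCoh.Ab X} {Ω : Type u} [Field Ω] [IsSepClosed Ω]
    (ξ : Spec (CommRingCat.of Ω) ⟶ X) {x : X} (hx : ξ.base default = x) (h : x ∈ EtPBC.supp F) :
    ¬ IsZero ((EtCoh.stalk ξ).obj F) := by
  obtain ⟨Ω', _, _, ξ', hξ', hne⟩ := h
  exact fun h0 => hne (isZero_stalk_of_base ξ ξ' ((show ξ'.base default = x from hξ'.subset ⟨_, rfl⟩).trans hx.symm) h0)

theorem isZero_of_supp {F : EtCoh.Ab X} (h : EtPBC.supp F ⊆ ∅) : IsZero F :=
  (EtSite.isZero_iff_stalks _).2 fun Ω _ _ ξ => by_contra fun hne =>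
    h ⟨Ω, inferInstance, inferInstance, ξ, Spz.range_eq_singleton ξ rfl, hne⟩

/-- Removing one point from the support. -/
theorem step {F : EtCoh.Ab X} (hF : EtAcyc.IsLTorsion L F) (x : X) [QuasiCompact (X.fromSpecResidueField x)]
    [QuasiSeparated (X.fromSpecResidueField x)] (i : ℕ)
    (hP : Subsingleton (EtCoh.H X ((EtCoh.push (X.fromSpecResidueField x)).obj
      ((EtCoh.pull (X.fromSpecResidueField x)).obj F)) (i + 1)))
    (hK : ∀ K, EtAcyc.IsLTorsion L K → EtPBC.supp K ⊆ EtPBC.supp F \ {x} → Subsingleton (EtCoh.H X K (i + 1)))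
    (hC : ∀ C, EtAcyc.IsLTorsion L C → EtPBC.supp C ⊆ closure {x} \ {x} → Subsingleton (EtCoh.H X C i)) :
    Subsingleton (EtCoh.H X F (i + 1)) := by
  let j := X.fromSpecResidueField x
  let G := (EtCoh.push j).obj ((EtCoh.pull j).obj F)
  let φ : F ⟶ G := (EtCoh.pullPushAdj j).unit.app F
  have hGt : EtAcyc.IsLTorsion L G :=
    CompTransfer.isLTorsion_push L j (CompTransfer.isLTorsion_pull L j hF)
  have hKs : EtPBC.supp (kernel φ) ⊆ EtPBC.supp F \ {x} := by
    rintro y ⟨Ω, _, _, ξ, hξ, hne⟩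
    refine ⟨⟨Ω, inferInstance, inferInstance, ξ, hξ, fun h0 => hne ?_⟩, fun hy => hne ?_⟩
    · exact CurveCd.isZero_stalk_kernel φ ξ fun a b _ => (AddCommGrpCat.subsingleton_of_isZero h0).elim a b
    · exact CurveCd.isZero_stalk_kernel φ ξ (CurveCd.bijective_stalk_unit x ξ
        ((show ξ.base default = y from hξ.subset ⟨_, rfl⟩).trans hy) F).1
  have hCs : EtPBC.supp (cokernel φ) ⊆ closure {x} \ {x} := by
    rintro y ⟨Ω, _, _, ξ, hξ, hne⟩
    refine ⟨by_contra fun hy => hne ?_, fun hy => hne ?_⟩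
    · refine CurveCd.isZero_stalk_cokernel φ ξ fun a => ⟨0, ?_⟩
      have hz : IsZero ((EtCoh.stalk ξ).obj G) := CurveCd.isZero_stalk_push_closure j _ ξ (by
        rw [X.range_fromSpecResidueField x, show ξ.base default = y from hξ.subset ⟨_, rfl⟩]
        exact hy)
      exact (AddCommGrpCat.subsingleton_of_isZero hz).elim _ _
    · exact CurveCd.isZero_stalk_cokernel φ ξ (CurveCd.bijective_stalk_unit x ξ
        ((show ξ.base default = y from hξ.subset ⟨_, rfl⟩).trans hy) F).2
  have h₁ := hK _ (isLTorsion_of_mono (kernel.ι φ) hF) hKs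
  have h₃ := hC _ (CompTransfer.isLTorsion_of_epi (cokernel.π φ) hGt) hCs
  let E₂ : ShortComplex (EtCoh.Ab X) := ShortComplex.mk (Abelian.image.ι φ) (cokernel.π φ) (kernel.condition _)
  have hE₂ : E₂.ShortExact :=
    { exact := ShortComplex.exact_of_f_is_kernel _ (kernelIsKernel _)
      mono_f := inferInstanceAs (Mono (Abelian.image.ι φ))
      epi_g := inferInstanceAs (Epi (cokernel.π φ)) }
  let E₁ : ShortComplex (EtCoh.Ab X) := ShortComplex.mk (kernel.ι φ) (Abelian.factorThruImage φ)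
    (by rw [← cancel_mono (Abelian.image.ι φ), Category.assoc, Abelian.image.fac, kernel.condition, zero_comp])
  haveI : Mono E₁.f := inferInstanceAs (Mono (kernel.ι φ))
  haveI : Epi E₁.g := inferInstanceAs (Epi (Abelian.factorThruImage φ))
  have hE₁ : E₁.ShortExact :=
    { exact := ShortComplex.exact_of_f_is_kernel _ (KernelFork.IsLimit.ofι' _ E₁.zero fun {A} a ha =>
        ⟨kernel.lift φ a (by rw [← Abelian.image.fac φ, ← Category.assoc, ha, zero_comp]), kernel.lift_ι _ _ _⟩) }
  have him : Subsingleton (EtCoh.H X E₂.X₁ (i + 1)) := subsingleton_of_forall_eq 0 fun z => by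
    obtain ⟨a, rfl⟩ := LimCoh.exists_δH hE₂ i z (@Subsingleton.elim (EtCoh.H X E₂.X₂ (i + 1)) hP _ _)
    rw [@Subsingleton.elim (EtCoh.H X E₂.X₃ i) h₃ a 0, map_zero]
  exact Devissage.middle hE₁ (i + 1) h₁ him

/-- Finite discrete schemes. -/
theorem cdLE_discrete {ℓ : ℕ} (Z : Scheme.{u}) [Finite Z] (hcl : ∀ z : Z, IsClosed ({z} : Set Z)) {d : ℕ}
    (h : ∀ z : Z, FieldTower.CdLE ℓ (Spec (Z.residueField z)) d) : FieldTower.CdLE ℓ Z d := by
  classical
  haveI := Fintype.ofFinite Z
  suffices H : ∀ (A : Finset Z) (F : EtCoh.Ab Z), EtAcyc.IsLTorsion {ℓ} F → EtPBC.supp F ⊆ A → ∀ q, d < q →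
      Subsingleton (EtCoh.H Z F q) from
    fun F hF q hq => H Finset.univ F hF (fun z _ => Finset.mem_coe.2 (Finset.mem_univ z)) q hq
  intro A
  induction A using Finset.induction with
  | empty => exact fun F _ hs q _ => Devissage.of_isZero (isZero_of_supp (by simpa using hs)) q
  | insert x A hx ih =>
    intro F hF hs q hq
    obtain ⟨i, rfl⟩ : ∃ i, q = i + 1 := ⟨q - 1, by omega⟩
    haveI : IsClosedImmersion (Z.fromSpecResidueField x) := isClosed_singleton_iff_isClosedImmersion.1 (hcl x)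
    refine step hF x i (Devissage.of_push _ _ _ (h x _ (CompTransfer.isLTorsion_pull _ _ hF) _ hq))
      (fun K hK hKs => ih K hK (fun y hy => ?_) _ hq) (fun C _ hCs => Devissage.of_isZero (isZero_of_supp ?_) _)
    · obtain ⟨h1, h2⟩ := hKs hy
      exact ((Finset.mem_coe.trans Finset.mem_insert).1 (hs h1)).resolve_left h2
    · rw [(hcl x).closure_eq, Set.sdiff_self] at hCs
      exact hCs

end Groth.L28.DimFun
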