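import Groth.Agent.L28.DimFun.Fibre
import Mathlib.AlgebraicGeometry.Properties
import Mathlib.RingTheory.Ideal.KrullsHeightTheorem

/-! # Dimension of the strict localisation of a closure -/

set_option autoImplicit false
set_option linter.style.haveILetI false
set_option linter.unusedSectionVars false
set_option backward.isDefEq.respectTransparency.types false

universe u

open CategoryTheory CategoryTheory.Limits AlgebraicGeometry Opposite

noncomputable section

namespace Groth.L28.DimFun

variable {X : Scheme.{u}}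

theorem exists_codim [IsLocallyNoetherian X] (x : X) :
    ∃ c : ℕ, ringKrullDim (X.presheaf.stalk x) = c ∧ Order.coheight x = c := by
  have h : ringKrullDim (X.presheaf.stalk x) < ⊤ := ringKrullDim_lt_top
  rw [ringKrullDim_stalk_eq_coheight] at h ⊢
  obtain ⟨c, hc⟩ := ENat.ne_top_iff_exists.1 (WithBot.coe_lt_coe.1 h).ne
  exact ⟨c, by rw [← hc]; rfl, hc.symm⟩

theorem lt_of_specializes {x y : X} (h : x ⤳ y) (hne : x ≠ y) : y < x := by
  refine lt_iff_le_not_ge.2 ⟨h, fun h' => hne ?_⟩
  exact (h.antisymm h').eq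

theorem ringKrullDim_quot_le (x y : X) (h : x ⤳ y) (R : Type u) [CommRing R] [IsLocalRing R]
    [Algebra (X.presheaf.stalk y) R] [IsLocalHom (algebraMap (X.presheaf.stalk y) R)]
    [Hensel.IsStrictHenselization (X.presheaf.stalk y) R] (cx cy : ℕ) (hx : Order.coheight x = cx)
    (hy : Order.coheight y = cy) :
    ringKrullDim (R ⧸ (RingHom.ker (Cyc.specMap y x h)).map (algebraMap (X.presheaf.stalk y) R)) ≤ ((cy - cx : ℕ) : ℕ∞) := by
  let I := (RingHom.ker (Cyc.specMap y x h)).map (algebraMap (X.presheaf.stalk y) R)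
  let up : PrimeSpectrum (R ⧸ I) → PrimeSpectrum R := PrimeSpectrum.comap (Ideal.Quotient.mk I)
  let dn : PrimeSpectrum R → PrimeSpectrum (X.presheaf.stalk y) := PrimeSpectrum.comap (algebraMap _ R)
  let f : PrimeSpectrum (R ⧸ I) → X := fun Q => X.fromSpecStalk y (dn (up Q))
  have hfy : ∀ Q, y ≤ f Q := fun Q => by
    show f Q ⤳ y
    exact (X.range_fromSpecStalk (x := y)).le ⟨_, rfl⟩
  have hfx : ∀ Q, f Q ≤ x := fun Q => by
    show x ⤳ f Q
    conv_lhs => rw [← fromSpecStalk_ker x y h]
    refine ((PrimeSpectrum.le_iff_specializes _ _).1 ?_).map (X.fromSpecStalk y).continuous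
    show RingHom.ker (Cyc.specMap y x h) ≤ ((Q.asIdeal.comap (Ideal.Quotient.mk I)).comap (algebraMap _ R))
    refine Ideal.map_le_iff_le_comap.1 ?_
    exact Ideal.mk_ker.ge.trans (Ideal.comap_mono bot_le)
  have hanti : ∀ Q Q', Q < Q' → f Q' < f Q := fun Q Q' hQ => by
    have hle : dn (up Q) ≤ dn (up Q') := Ideal.comap_mono (Ideal.comap_mono hQ.le)
    refine lt_of_specializes (((PrimeSpectrum.le_iff_specializes _ _).1 hle).map (X.fromSpecStalk y).continuous) fun e => ?_
    have e' : dn (up Q) = dn (up Q') := (X.fromSpecStalk y).isEmbedding.injective e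
    have e'' := eq_of_le_of_comap_eq (X.presheaf.stalk y) R (Q := (up Q).asIdeal) (P := (up Q').asIdeal)
      (Ideal.comap_mono hQ.le) (congrArg PrimeSpectrum.asIdeal e')
    exact hQ.ne (PrimeSpectrum.comap_injective_of_surjective _ Ideal.Quotient.mk_surjective (PrimeSpectrum.ext e''))
  refine iSup_le fun p => ?_
  have key : ∀ (i : ℕ) (hi : i < p.length + 1), Order.coheight x + i ≤ Order.coheight (f (p ⟨i, hi⟩)) := by
    intro i
    induction i with
    | zero => exact fun hi => by simpa using Order.coheight_anti (hfx _)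
    | succ i ih =>
      intro hi
      rw [Nat.cast_succ, ← add_assoc]
      exact (add_le_add_left (ih (by omega)) 1).trans
        (Order.coheight_add_one_le (hanti _ _ (p.strictMono (Fin.mk_lt_mk.2 (Nat.lt_succ_self i)))))
  have h' := (key p.length (Nat.lt_succ_self _)).trans (Order.coheight_anti (hfy _))
  rw [hx, hy, ← Nat.cast_add, Nat.cast_le] at h'
  exact WithBot.coe_le_coe.2 (Nat.cast_le.2 (by omega))

end Groth.L28.DimFun
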