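import Groth.Agent.L28.DimFun.Basic
import Groth.Agent.L05.Henselization.Fibres
import Groth.Prelude.Def_Cyc
import Groth.Prelude.Def_Hens2

/-! # The fibre of a strict localisation over a point -/

set_option autoImplicit false
set_option linter.style.haveILetI false
set_option linter.unusedSectionVars false
set_option backward.isDefEq.respectTransparency.types false

universe u

open CategoryTheory CategoryTheory.Limits AlgebraicGeometry Opposite

noncomputable section

namespace Groth.L28.DimFun

open Groth.L27

variable {X : Scheme.{u}}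

instance isPrime_ker_specMap (x y : X) (h : x ⤳ y) : (RingHom.ker (Cyc.specMap y x h)).IsPrime :=
  RingHom.ker_isPrime _

theorem fromSpecStalk_ker (x y : X) (h : x ⤳ y) :
    X.fromSpecStalk y ⟨RingHom.ker (Cyc.specMap y x h), inferInstance⟩ = x := by
  have e : (⟨RingHom.ker (Cyc.specMap y x h), inferInstance⟩ : PrimeSpectrum (X.presheaf.stalk y)) =
      Spec.map (X.presheaf.stalkSpecializes h) (IsLocalRing.closedPoint (X.presheaf.stalk x)) := by
    refine PrimeSpectrum.ext ?_
    show RingHom.ker ((X.residue x).hom.comp (X.presheaf.stalkSpecializes h).hom) =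
      Ideal.comap (X.presheaf.stalkSpecializes h).hom (IsLocalRing.maximalIdeal (X.presheaf.stalk x))
    rw [← RingHom.comap_ker]
    exact congrArg _ (IsLocalRing.ker_residue)
  refine (congrArg (fun p => X.fromSpecStalk y p) e).trans ?_
  refine (Scheme.Hom.comp_apply _ _ _).symm.trans ?_
  rw [Scheme.SpecMap_stalkSpecializes_fromSpecStalk]
  exact Scheme.fromSpecStalk_closedPoint

theorem eq_ker_of_fromSpecStalk (x y : X) (h : x ⤳ y) (p : PrimeSpectrum (X.presheaf.stalk y))
    (hp : X.fromSpecStalk y p = x) : p.asIdeal = RingHom.ker (Cyc.specMap y x h) :=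
  congrArg PrimeSpectrum.asIdeal ((X.fromSpecStalk y).isEmbedding.injective (hp.trans (fromSpecStalk_ker x y h).symm))

/-- No inclusions between primes of a strict henselization over the same prime. -/
theorem eq_of_le_of_comap_eq (O R : Type u) [CommRing O] [IsLocalRing O] [CommRing R] [IsLocalRing R] [Algebra O R]
    [IsLocalHom (algebraMap O R)] [Hensel.IsStrictHenselization O R] {Q P : Ideal R} [Q.IsPrime] [P.IsPrime]
    (hle : Q ≤ P) (h : Q.comap (algebraMap O R) = P.comap (algebraMap O R)) : Q = P := by
  refine le_antisymm hle fun a ha => ?_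
  obtain ⟨t, ht, hta⟩ := L05.Henselization.hasReducedPointFibres_strict O R P ‹_› a ha
  have h1 : t * a ∈ Q := by
    refine Ideal.map_le_iff_le_comap.2 ?_ hta
    exact h.ge
  exact (Ideal.IsPrime.mem_or_mem ‹_› h1).resolve_left fun h2 => ht (hle h2)

variable (x y : X) (R : Type u) [CommRing R] [IsLocalRing R]
  [Algebra (X.presheaf.stalk y) R] [IsLocalHom (algebraMap (X.presheaf.stalk y) R)]
  [Hensel.IsStrictHenselization (X.presheaf.stalk y) R]

/-- the fibre -/
abbrev Fib : Scheme.{u} := pullback (X.fromSpecResidueField x) (Hens2.specOf X y R)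

/-- the prime of a point of the fibre -/
def fibPrime (z : Fib x y R) : PrimeSpectrum R :=
  (pullback.snd (X.fromSpecResidueField x) (Hens2.specOf X y R)).base z

theorem injective_fibPrime : Function.Injective (fibPrime x y R) :=
  haveI : IsPreimmersion (pullback.snd (X.fromSpecResidueField x) (Hens2.specOf X y R)) :=
    MorphismProperty.pullback_snd (P := @IsPreimmersion) _ _ inferInstance
  (pullback.snd (X.fromSpecResidueField x) (Hens2.specOf X y R)).isEmbedding.injective

theorem specializes_fibPrime {z z' : Fib x y R} (h : z ⤳ z') : (fibPrime x y R z).asIdeal ≤ (fibPrime x y R z').asIdeal :=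
  (PrimeSpectrum.le_iff_specializes _ _).2 (h.map (pullback.snd (X.fromSpecResidueField x) (Hens2.specOf X y R)).continuous)

theorem fromSpecStalk_comap_fibPrime (z : Fib x y R) :
    X.fromSpecStalk y (PrimeSpectrum.comap (algebraMap (X.presheaf.stalk y) R) (fibPrime x y R z)) = x := by
  refine Eq.trans ?_ (X.fromSpecResidueField_apply x
    (pullback.fst (X.fromSpecResidueField x) (Hens2.specOf X y R) z))
  refine Eq.trans ?_ ((Scheme.Hom.comp_apply _ _ _).symm.trans ((congrArg (fun m : Fib x y R ⟶ X => m z)
    pullback.condition.symm).trans (Scheme.Hom.comp_apply _ _ _)))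
  exact (Scheme.Hom.comp_apply (Spec.map (CommRingCat.ofHom (algebraMap (X.presheaf.stalk y) R))) (X.fromSpecStalk y) _).symm

theorem specializes_of_fib (z : Fib x y R) : x ⤳ y := by
  have h : x ∈ Set.range (X.fromSpecStalk y) := ⟨_, fromSpecStalk_comap_fibPrime x y R z⟩
  rwa [Scheme.range_fromSpecStalk] at h

theorem fibPrime_mem_minimalPrimes (h : x ⤳ y) (z : Fib x y R) :
    (fibPrime x y R z).asIdeal ∈
      ((RingHom.ker (Cyc.specMap y x h)).map (algebraMap (X.presheaf.stalk y) R)).minimalPrimes := by
  have hc : (fibPrime x y R z).asIdeal.comap (algebraMap (X.presheaf.stalk y) R) = RingHom.ker (Cyc.specMap y x h) :=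
    eq_ker_of_fromSpecStalk x y h _ (fromSpecStalk_comap_fibPrime x y R z)
  refine ⟨⟨inferInstance, Ideal.map_le_iff_le_comap.2 hc.ge⟩, fun Q ⟨hQ, hQle⟩ hle => ?_⟩
  haveI := hQ
  exact (eq_of_le_of_comap_eq (X.presheaf.stalk y) R hle
    (le_antisymm (Ideal.comap_mono hle) (hc.le.trans (Ideal.map_le_iff_le_comap.1 hQle)))).ge

theorem eq_of_specializes_fib {z z' : Fib x y R} (h : z ⤳ z') : z = z' := by
  refine injective_fibPrime x y R (PrimeSpectrum.ext ?_)
  refine eq_of_le_of_comap_eq (X.presheaf.stalk y) R (specializes_fibPrime x y R h) ?_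
  rw [show (fibPrime x y R z).asIdeal.comap _ = _ from
      eq_ker_of_fromSpecStalk x y (specializes_of_fib x y R z) _ (fromSpecStalk_comap_fibPrime x y R z)]
  exact (eq_ker_of_fromSpecStalk x y (specializes_of_fib x y R z) _ (fromSpecStalk_comap_fibPrime x y R z')).symm

theorem finite_fib [IsLocallyNoetherian X] : Finite (Fib x y R) := by
  rcases isEmpty_or_nonempty (Fib x y R) with h | ⟨⟨z₀⟩⟩
  · infer_instance
  · haveI : IsNoetherianRing (X.presheaf.stalk y) := inferInstance
    haveI : IsNoetherianRing R := (L05.Henselization.isNoetherianRing_iff_strict (X.presheaf.stalk y) R).1 inferInstance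
    have hx := specializes_of_fib x y R z₀
    haveI := (Ideal.finite_minimalPrimes_of_isNoetherianRing R
      ((RingHom.ker (Cyc.specMap y x hx)).map (algebraMap (X.presheaf.stalk y) R))).to_subtype
    exact Finite.of_injective (fun z => (⟨_, fibPrime_mem_minimalPrimes x y R hx z⟩ :
        ((RingHom.ker (Cyc.specMap y x hx)).map (algebraMap (X.presheaf.stalk y) R)).minimalPrimes))
      fun a b e => injective_fibPrime x y R (PrimeSpectrum.ext (congrArg Subtype.val e))

theorem isClosed_fib (z : Fib x y R) : IsClosed ({z} : Set (Fib x y R)) :=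
  closure_subset_iff_isClosed.1 fun _ hw => (eq_of_specializes_fib x y R (specializes_iff_mem_closure.2 hw)).symm

/-- Residue fields of the fibre. -/
theorem cdLE_fib_residue {ℓ d : ℕ} (z : Fib x y R)
    (h : FieldTower.CdLE ℓ (Spec (CommRingCat.of (fibPrime x y R z).asIdeal.ResidueField)) d) :
    FieldTower.CdLE ℓ (Spec ((Fib x y R).residueField z)) d := by
  let s := pullback.snd (X.fromSpecResidueField x) (Hens2.specOf X y R)
  haveI : IsPreimmersion s := MorphismProperty.pullback_snd (P := @IsPreimmersion) _ _ inferInstance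
  have hb : Function.Bijective (s.residueFieldMap z) := by
    refine ⟨(s.residueFieldMap z).hom.injective, fun a => ?_⟩
    obtain ⟨b, rfl⟩ := (Fib x y R).residue_surjective z a
    obtain ⟨c, rfl⟩ := s.stalkMap_surjective z b
    exact ⟨(Spec (CommRingCat.of R)).residue (s z) c, rfl⟩
  haveI : IsIso (s.residueFieldMap z) := (ConcreteCategory.isIso_iff_bijective _).2 hb
  exact h.of_integral (Spec.map (s.residueFieldMap z) ≫ Spec.map (Scheme.Spec.residueFieldIso (CommRingCat.of R) (s z)).inv)

theorem cdLE_fib [IsLocallyNoetherian X] {ℓ d : ℕ}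
    (hd : ∀ h : x ⤳ y, ∀ P ∈ ((RingHom.ker (Cyc.specMap y x h)).map (algebraMap (X.presheaf.stalk y) R)).minimalPrimes,
      FieldTower.CdLE ℓ (Spec (CommRingCat.of (FractionRing (R ⧸ P)))) d) :
    FieldTower.CdLE ℓ (Fib x y R) d := by
  haveI := finite_fib x y R
  refine cdLE_discrete _ (isClosed_fib x y R) fun z => cdLE_fib_residue x y R z ?_
  let P := (fibPrime x y R z).asIdeal
  let e : FractionRing (R ⧸ P) ≃ₐ[R ⧸ P] P.ResidueField := FractionRing.algEquiv _ _
  exact (hd (specializes_of_fib x y R z) P (fibPrime_mem_minimalPrimes x y R _ z)).of_integral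
    (Spec.map e.toRingEquiv.toCommRingCatIso.hom)

/-- Over the point itself the fibre has residue field separably closed. -/
theorem cdLE_fib_self [IsLocallyNoetherian X] {ℓ : ℕ} (x : X) (R : Type u) [CommRing R] [IsLocalRing R]
    [Algebra (X.presheaf.stalk x) R] [IsLocalHom (algebraMap (X.presheaf.stalk x) R)]
    [hS : Hensel.IsStrictHenselization (X.presheaf.stalk x) R] : FieldTower.CdLE ℓ (Fib x x R) 0 := by
  haveI := finite_fib x x R
  refine cdLE_discrete _ (isClosed_fib x x R) fun z => cdLE_fib_residue x x R z fun F _ q hq => ?_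
  obtain ⟨i, rfl⟩ : ∃ i, q = i + 1 := ⟨q - 1, by omega⟩
  have hP : (fibPrime x x R z).asIdeal = IsLocalRing.maximalIdeal R := by
    refine eq_of_le_of_comap_eq (X.presheaf.stalk x) R (IsLocalRing.le_maximalIdeal (Ideal.IsPrime.ne_top inferInstance)) ?_
    rw [show (fibPrime x x R z).asIdeal.comap _ = _ from
      eq_ker_of_fromSpecStalk x x specializes_rfl _ (fromSpecStalk_comap_fibPrime x x R z)]
    exact (eq_ker_of_fromSpecStalk x x specializes_rfl
      (PrimeSpectrum.comap (algebraMap (X.presheaf.stalk x) R) (IsLocalRing.closedPoint R))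
      ((congrArg (fun p => X.fromSpecStalk x p) (IsLocalRing.comap_closedPoint _)).trans
        Scheme.fromSpecStalk_closedPoint)).symm
  haveI hm : (fibPrime x x R z).asIdeal.IsMaximal := hP ▸ inferInstance
  let r : R ⧸ (fibPrime x x R z).asIdeal →+* (fibPrime x x R z).asIdeal.ResidueField := algebraMap _ _
  have hr : Function.Bijective r := Ideal.bijective_algebraMap_quotient_residueField _
  let e : IsLocalRing.ResidueField R ≃+* (fibPrime x x R z).asIdeal.ResidueField :=
    (Ideal.quotEquivOfEq hP.symm).trans (RingEquiv.ofBijective r hr)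
  haveI : IsSepClosed (IsLocalRing.ResidueField R) := hS.isSepClosure.sep_closed
  exact (show FieldTower.CdLE ℓ (Spec (CommRingCat.of (IsLocalRing.ResidueField R))) 0 from fun G _ r hr => by
      obtain ⟨j, rfl⟩ : ∃ j, r = j + 1 := ⟨r - 1, by omega⟩
      exact CurveCd.subsingleton_H_sepClosed _ G j).of_integral (Spec.map e.toCommRingCatIso.hom) F ‹_› _ hq

end Groth.L28.DimFun
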