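import Groth.Agent.L28.DimFun.Fibre
import Groth.Agent.L28.CurveCd.SuppColim
import Groth.Agent.L27.StalkRpush.Final
import Groth.Agent.L05.Henselization.Strict
import Groth.Agent.L27.PBC.GeomPoint

/-! # Cohomological dimension from a dimension function -/

set_option autoImplicit false
set_option linter.style.haveILetI false
set_option linter.unusedSectionVars false
set_option backward.isDefEq.respectTransparency.types false

universe u

open CategoryTheory CategoryTheory.Limits AlgebraicGeometry Opposite TopologicalSpace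

noncomputable section

namespace Groth.L28.DimFun

open Groth.L27

variable {X : Scheme.{u}}

/-- The vanishing that controls the cohomology of a direct image from a point. -/
structure Small (φ : X → ℕ) (x : X) (G : EtCoh.Ab (Spec (X.residueField x))) (k : ℕ) : Prop where
  hH : ∀ n, k < n → Subsingleton (EtCoh.H (Spec (X.residueField x)) G n)
  hR : ∀ (y : X) (R : Type u) [CommRing R] [IsLocalRing R] [Algebra (X.presheaf.stalk y) R]
    [IsLocalHom (algebraMap (X.presheaf.stalk y) R)] [Hensel.IsStrictHenselization (X.presheaf.stalk y) R] (b : ℕ),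
    0 < b → k < φ y + b + 1 →
      Subsingleton (EtCoh.H (Fib x y R) ((EtCoh.pull (pullback.fst (X.fromSpecResidueField x) (Hens2.specOf X y R))).obj G) b)

theorem exists_strict (y : X) : ∃ (R : Type u) (_ : CommRing R) (_ : IsLocalRing R)
    (_ : Algebra (X.presheaf.stalk y) R) (_ : IsLocalHom (algebraMap (X.presheaf.stalk y) R)),
    Hensel.IsStrictHenselization (X.presheaf.stalk y) R :=
  L05.Henselization.exists_isStrictHenselization _

theorem isZero_Rpush_of_small (x : X) (G : EtCoh.Ab (Spec (X.residueField x))) (φ : X → ℕ)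
    (hG : Small φ x G 0) (b : ℕ) (hb : 0 < b) : IsZero ((EtCoh.Rpush (X.fromSpecResidueField x) b).obj G) := by
  refine (EtSite.isZero_iff_stalks _).2 fun Ω _ _ ξ => ?_
  obtain ⟨R, _, _, _, _, hS⟩ := exists_strict (ξ.base default)
  haveI : IsSepClosed (IsLocalRing.ResidueField R) := hS.isSepClosure.sep_closed
  obtain ⟨e⟩ := StalkRpush.nonempty_natIso (X.fromSpecResidueField x) (ξ.base default) R b
  refine isZero_stalk_of_base (Hens2.geomPt X (ξ.base default) R) ξ (PBC.geomPt_default _ _ R).symm ?_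
  exact IsZero.of_iso (@AddCommGrpCat.isZero_of_subsingleton _ (hG.hR _ R b hb (by omega))) (e.app G)

/-- Vanishing on supports below a bound. -/
def VanBelow (ℓ : ℕ) (φ : X → ℕ) (m : ℕ) : Prop :=
  ∀ F : EtCoh.Ab X, EtAcyc.IsLTorsion {ℓ} F → EtPBC.supp F ⊆ {y | φ y < m} → ∀ q, m ≤ q → Subsingleton (EtCoh.H X F q)

theorem vanish_push {ℓ : ℕ} (φ : X → ℕ) (m : ℕ) (hP : ∀ k, k < m → VanBelow ℓ φ k) (x : X) :
    ∀ k, k ≤ m → ∀ G : EtCoh.Ab (Spec (X.residueField x)), EtAcyc.IsLTorsion {ℓ} G → Small φ x G k →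
      ∀ n, k < n → Subsingleton (EtCoh.H X ((EtCoh.push (X.fromSpecResidueField x)).obj G) n) := by
  let j := X.fromSpecResidueField x
  haveI := EtSite.preservesFiniteLimits_pull j
  intro k
  induction k with
  | zero =>
    intro _ G _ hG n hn
    haveI := hG.hH n hn
    exact (EtSite.bijective_HofPush j G (isZero_Rpush_of_small x G φ hG) n).1.subsingleton
  | succ k ih =>
    intro hk G hG hs n hn
    obtain ⟨i, rfl⟩ : ∃ i, n = i + 2 := ⟨n - 2, by omega⟩
    obtain ⟨G₁, v, hv, hG₁, hH₁, hR₁⟩ := CompTransfer.exists_torsion_effacement {ℓ} G hG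
    haveI := hv
    let E : ShortComplex (EtCoh.Ab (Spec (X.residueField x))) :=
      ShortComplex.mk v (cokernel.π v) (cokernel.condition v)
    have hE : E.ShortExact := { exact := ShortComplex.exact_of_g_is_cokernel _ (cokernelIsCokernel v) }
    have hG₂ : EtAcyc.IsLTorsion {ℓ} E.X₃ := CompTransfer.isLTorsion_of_epi (cokernel.π v) hG₁
    -- the cohomology of the effacing sheaf on the fibres
    have hf₁ : ∀ (y : X) (R : Type u) [CommRing R] [IsLocalRing R] [Algebra (X.presheaf.stalk y) R]
        [IsLocalHom (algebraMap (X.presheaf.stalk y) R)] [Hensel.IsStrictHenselization (X.presheaf.stalk y) R] (b : ℕ),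
        0 < b → Subsingleton (EtCoh.H (Fib x y R)
          ((EtCoh.pull (pullback.fst (X.fromSpecResidueField x) (Hens2.specOf X y R))).obj G₁) b) := by
      intro y R _ _ _ _ hS b hb
      haveI : IsSepClosed (IsLocalRing.ResidueField R) := hS.isSepClosure.sep_closed
      obtain ⟨e⟩ := StalkRpush.nonempty_natIso j y R b
      exact AddCommGrpCat.subsingleton_of_isZero
        (IsZero.of_iso ((EtCoh.stalk (Hens2.geomPt X y R)).map_isZero (hR₁ j b hb)) (e.app G₁).symm)
    have hs₂ : Small φ x E.X₃ k := by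
      refine ⟨fun r hr => ?_, fun y R _ _ _ _ _ b hb hkb => ?_⟩
      · obtain ⟨r, rfl⟩ : ∃ r', r = r' + 1 := ⟨r - 1, by omega⟩
        refine subsingleton_of_forall_eq 0 fun z => ?_
        obtain ⟨w, rfl⟩ := LimCoh.exists_map_of_δH_eq_zero hE (r + 1) z
          (@Subsingleton.elim _ (hs.hH (r + 2) (by omega)) _ _)
        rw [@Subsingleton.elim (EtCoh.H _ E.X₂ (r + 1)) (hH₁ r) w 0]
        exact map_zero ((EtCoh.HF (Spec (X.residueField x)) (r + 1)).map E.g).hom
      · let g := pullback.fst (X.fromSpecResidueField x) (Hens2.specOf X y R)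
        haveI := EtSite.preservesFiniteLimits_pull g
        haveI : (EtCoh.pull g).Additive := (EtCoh.pullPushAdj g).left_adjoint_additive
        haveI : PreservesFiniteColimits (EtCoh.pull g) :=
          have : PreservesColimitsOfSize.{0, 0} (EtCoh.pull g) := (EtCoh.pullPushAdj g).leftAdjoint_preservesColimits
          PreservesColimitsOfSize.preservesFiniteColimits _
        refine subsingleton_of_forall_eq 0 fun z => ?_
        obtain ⟨w, rfl⟩ := LimCoh.exists_map_of_δH_eq_zero (hE.map_of_exact (EtCoh.pull g)) b z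
          (@Subsingleton.elim _ (hs.hR y R (b + 1) (by omega) (by omega)) _ _)
        rw [@Subsingleton.elim (EtCoh.H (Fib x y R) (E.map (EtCoh.pull g)).X₂ b) (hf₁ y R b hb) w 0]
        exact map_zero ((EtCoh.HF (Fib x y R) b).map (E.map (EtCoh.pull g)).g).hom
    haveI : PreservesFiniteLimits (EtCoh.push j) := Devissage.preservesFiniteLimits_push j
    let ψ := (EtCoh.push j).map E.g
    have hC : EtPBC.supp (cokernel ψ) ⊆ {y | φ y < k} := by
      intro y hy
      by_contra hyk
      rw [Set.mem_ofPred_eq, not_lt] at hyk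
      obtain ⟨R, _, _, _, _, hS⟩ := exists_strict y
      haveI : IsSepClosed (IsLocalRing.ResidueField R) := hS.isSepClosure.sep_closed
      refine not_isZero_stalk (Hens2.geomPt X y R) (PBC.geomPt_default X y R) hy
        (CurveCd.isZero_stalk_cokernel ψ _ fun a => ?_)
      obtain ⟨e⟩ := StalkRpush.nonempty_natIso j y R 0
      let g := pullback.fst (X.fromSpecResidueField x) (Hens2.specOf X y R)
      haveI := EtSite.preservesFiniteLimits_pull g
      haveI : (EtCoh.pull g).Additive := (EtCoh.pullPushAdj g).left_adjoint_additive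
      haveI : PreservesFiniteColimits (EtCoh.pull g) :=
        have : PreservesColimitsOfSize.{0, 0} (EtCoh.pull g) := (EtCoh.pullPushAdj g).leftAdjoint_preservesColimits
        PreservesColimitsOfSize.preservesFiniteColimits _
      let T := Functor.isoWhiskerRight (EtCoh.push j).rightDerivedZeroIsoSelf.symm (EtCoh.stalk (Hens2.geomPt X y R)) ≪≫ e
      obtain ⟨w, hw⟩ := LimCoh.exists_map_of_δH_eq_zero (hE.map_of_exact (EtCoh.pull g)) 0 ((T.app _).hom a)
        (@Subsingleton.elim _ (hs.hR y R 1 (by omega) (by omega)) _ _)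
      refine ⟨(T.app _).inv w, ?_⟩
      refine (ConcreteCategory.congr_hom (T.inv.naturality E.g) w).symm.trans ?_
      refine (congrArg ((T.app _).inv) hw).trans ?_
      exact Iso.hom_inv_id_apply (T.app _) a
    have hCt : EtAcyc.IsLTorsion {ℓ} (cokernel ψ) :=
      CompTransfer.isLTorsion_of_epi (cokernel.π ψ) (CompTransfer.isLTorsion_push {ℓ} j hG₂)
    have h₂ : Subsingleton (EtCoh.H X ((EtCoh.push j).obj E.X₂) (i + 2)) :=
      haveI : Subsingleton (EtCoh.H (Spec (X.residueField x)) E.X₂ (i + 2)) := hH₁ (i + 1)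
      (EtSite.bijective_HofPush j E.X₂ (fun r hr => hR₁ j r hr) (i + 2)).1.subsingleton
    have hI : Subsingleton (EtCoh.H X (Abelian.image ψ) (i + 1)) := by
      let E₂ : ShortComplex (EtCoh.Ab X) := ShortComplex.mk (Abelian.image.ι ψ) (cokernel.π ψ) (kernel.condition _)
      have hE₂ : E₂.ShortExact :=
        { exact := ShortComplex.exact_of_f_is_kernel _ (kernelIsKernel _)
          mono_f := inferInstanceAs (Mono (Abelian.image.ι ψ))
          epi_g := inferInstanceAs (Epi (cokernel.π ψ)) }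
      refine subsingleton_of_forall_eq 0 fun z => ?_
      obtain ⟨a, rfl⟩ := LimCoh.exists_δH hE₂ i z
        (@Subsingleton.elim (EtCoh.H X E₂.X₂ (i + 1)) (ih (by omega) E.X₃ hG₂ hs₂ (i + 1) (by omega)) _ _)
      rw [@Subsingleton.elim (EtCoh.H X E₂.X₃ i) (hP k (by omega) _ hCt hC i (by omega)) a 0, map_zero]
    let T : ShortComplex (EtCoh.Ab X) := ShortComplex.mk ((EtCoh.push j).map E.f) (Abelian.factorThruImage ψ) (by
      rw [← cancel_mono (Abelian.image.ι ψ), Category.assoc, Abelian.image.fac, zero_comp, ← Functor.map_comp, E.zero,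
        Functor.map_zero])
    haveI := hE.mono_f
    haveI : Mono T.f := inferInstanceAs (Mono ((EtCoh.push j).map E.f))
    haveI : Epi T.g := inferInstanceAs (Epi (Abelian.factorThruImage ψ))
    have hT : T.ShortExact :=
      { exact := by
          let T' : ShortComplex (EtCoh.Ab X) := ShortComplex.mk ((EtCoh.push j).map E.f) ψ
            (by rw [← Functor.map_comp, E.zero, Functor.map_zero])
          have hK : IsLimit (KernelFork.ofι T'.f T'.zero) := KernelFork.mapIsLimit _ hE.fIsKernel (EtCoh.push j)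
          refine ShortComplex.exact_of_f_is_kernel _ (KernelFork.IsLimit.ofι' _ T.zero fun {A} a ha =>
            KernelFork.IsLimit.lift' hK a ?_)
          show a ≫ ψ = 0
          rw [← Abelian.image.fac ψ, ← Category.assoc, ha, zero_comp] }
    refine subsingleton_of_forall_eq 0 fun z => ?_
    obtain ⟨a, rfl⟩ := LimCoh.exists_δH hT (i + 1) z (@Subsingleton.elim (EtCoh.H X T.X₂ (i + 2)) h₂ _ _)
    rw [@Subsingleton.elim (EtCoh.H X T.X₃ (i + 1)) hI a 0, map_zero]

variable [IsNoetherian X] {ℓ : ℕ} (φ : X → ℕ)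

/-- The cohomological dimension of a scheme with a dimension function. -/
theorem vanBelow (h1 : ∀ x : X, FieldTower.CdLE ℓ (Spec (X.residueField x)) (φ x))
    (hmono : ∀ x y : X, x ⤳ y → x ≠ y → φ y < φ x)
    (h2 : ∀ (x y : X) (hxy : x ⤳ y), x ≠ y →
      ∀ (R : Type u) [CommRing R] [IsLocalRing R] [Algebra (X.presheaf.stalk y) R]
      [IsLocalHom (algebraMap (X.presheaf.stalk y) R)] [Hensel.IsStrictHenselization (X.presheaf.stalk y) R],
      ∀ P ∈ ((RingHom.ker (Cyc.specMap y x hxy)).map (algebraMap (X.presheaf.stalk y) R)).minimalPrimes,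
        ∃ d : ℕ, d + 1 + φ y ≤ φ x ∧ FieldTower.CdLE ℓ (Spec (CommRingCat.of (FractionRing (R ⧸ P)))) d) :
    ∀ m, VanBelow ℓ φ m := by
  intro m
  induction m using Nat.strong_induction_on with
  | _ m ih =>
    rcases m with - | m
    · exact fun F _ hs q _ => Devissage.of_isZero (isZero_of_supp fun y hy => Nat.not_lt_zero _ (hs hy)) q
    intro F hF hs q hq
    obtain ⟨i, rfl⟩ : ∃ i, q = i + 1 := ⟨q - 1, by omega⟩
    have hPm : ∀ a b : X, a ⤳ b → φ a < m + 1 → φ b < m + 1 := fun a b hab ha => by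
      rcases eq_or_ne a b with rfl | hne
      · exact ha
      · exact (hmono a b hab hne).trans ha
    refine CurveCd.subsingleton_H_of_supp {y | φ y < m + 1} hPm F hs (i + 1) fun W hW => ?_
    have hpush : ∀ (x : X), φ x = m → ∀ G : EtCoh.Ab (Spec (X.residueField x)), EtAcyc.IsLTorsion {ℓ} G →
        Subsingleton (EtCoh.H X ((EtCoh.push (X.fromSpecResidueField x)).obj G) (i + 1)) := by
      intro x hx G hG
      refine vanish_push φ m (fun k hk => ih k (by omega)) x m le_rfl G hG ⟨fun n hn => h1 x G hG n (by omega),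
        fun y R _ _ _ _ _ b hb hlt => ?_⟩ (i + 1) (by omega)
      rcases eq_or_ne x y with rfl | hne
      · exact cdLE_fib_self x R _ (CompTransfer.isLTorsion_pull _ _ hG) b hb
      · refine cdLE_fib x y R (fun h P hP => ?_) _ (CompTransfer.isLTorsion_pull _ _ hG) b (?_ : φ x - φ y - 1 < b)
        · obtain ⟨d, hd, hcd⟩ := h2 x y h hne R P hP
          exact fun F hF q hq => hcd F hF q (by omega)
        · omega
    classical
    let F' := (EtDual.secSupp W.ι).obj F
    have hF' : EtAcyc.IsLTorsion {ℓ} F' :=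
      haveI : Mono ((Supp.secι W.ι).app F) := inferInstanceAs (Mono (kernel.ι _))
      isLTorsion_of_mono ((Supp.secι W.ι).app F) hF
    obtain ⟨M, hM⟩ : ∃ M : Finset X, ∀ x ∈ (W : Set X)ᶜ, φ x = m → x ∈ M := by
      obtain ⟨𝒮, hfin, hcl, hirr, hS⟩ := NoetherianSpace.exists_finite_set_isClosed_irreducible W.2.isClosed_compl
      haveI := hfin.to_subtype
      haveI := Fintype.ofFinite 𝒮
      choose η hη using fun T : 𝒮 => QuasiSober.sober (hirr T.1 T.2) (hcl T.1 T.2)
      refine ⟨Finset.univ.image η, fun x hx hxm => Finset.mem_image.2 ?_⟩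
      obtain ⟨T, hT, hxT⟩ : x ∈ ⋃₀ 𝒮 := hS.le hx
      refine ⟨⟨T, hT⟩, Finset.mem_univ _, by_contra fun hne => ?_⟩
      have h := hmono _ _ ((hη ⟨T, hT⟩).specializes hxT) hne
      have h' : φ (η ⟨T, hT⟩) < m + 1 := hW (hS.ge ⟨T, hT, (hη ⟨T, hT⟩).mem⟩)
      omega
    suffices H : ∀ (A : Finset X) (F : EtCoh.Ab X), EtAcyc.IsLTorsion {ℓ} F →
        EtPBC.supp F ⊆ {y | φ y < m} ∪ {y | y ∈ A ∧ φ y = m} → Subsingleton (EtCoh.H X F (i + 1)) by
      refine H M F' hF' fun y hy => ?_
      have hyW := CurveCd.supp_secSupp W F hy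
      rcases Nat.lt_succ_iff_lt_or_eq.1 (hW hyW) with h | h
      · exact Or.inl h
      · exact Or.inr ⟨hM y hyW h, h⟩
    intro A
    induction A using Finset.induction with
    | empty => exact fun G hG hGs => ih m (by omega) G hG (fun y hy => (hGs hy).resolve_right (by simp)) _ (by omega)
    | insert x A hxA ihA =>
      intro G hG hGs
      by_cases hxm : φ x = m
      · refine step hG x i (hpush x hxm _ (CompTransfer.isLTorsion_pull _ _ hG))
          (fun K hK hKs => ihA K hK fun y hy => ?_) fun C hC hCs => ih m (by omega) C hC (fun y hy => ?_) i (by omega)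
        · obtain ⟨h, hne⟩ := hKs hy
          exact (hGs h).imp id fun h' => ⟨(Finset.mem_insert.1 h'.1).resolve_left hne, h'.2⟩
        · obtain ⟨h, hne⟩ := hCs hy
          exact lt_of_lt_of_eq (hmono x y (specializes_iff_mem_closure.2 h) (Ne.symm hne)) hxm
      · exact ihA G hG fun y hy => (hGs hy).imp id fun h' =>
          ⟨(Finset.mem_insert.1 h'.1).resolve_left (by rintro rfl; exact hxm h'.2), h'.2⟩

theorem subsingleton_H_of_dimFun (hℓ : ℓ.Prime) (h1 : ∀ x : X, Dix.CohDimLEAt (Spec (X.residueField x)) ℓ (φ x))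
    (h2 : ∀ (x y : X) (hxy : x ⤳ y), x ≠ y →
      ∀ (R : Type u) [CommRing R] [IsLocalRing R] [Algebra (X.presheaf.stalk y) R]
      [IsLocalHom (algebraMap (X.presheaf.stalk y) R)] [Hensel.IsStrictHenselization (X.presheaf.stalk y) R],
      ∀ P ∈ ((RingHom.ker (Cyc.specMap y x hxy)).map (algebraMap (X.presheaf.stalk y) R)).minimalPrimes,
        ∃ d : ℕ, d + 1 + φ y ≤ φ x ∧ Dix.CohDimLEAt (Spec (CommRingCat.of (FractionRing (R ⧸ P)))) ℓ d)
    (F : EtCoh.Ab X) (hF : Dix.IsPrimaryTorsion ℓ F) (q : ℕ) (hq : ∀ x ∈ EtPBC.supp F, φ x < q) :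
    Subsingleton (EtCoh.H X F q) := by
  refine vanBelow φ (fun x => (FieldTower.cohDimLEAt_iff hℓ).1 (h1 x)) (fun x y hxy hne => ?_)
    (fun x y hxy hne R _ _ _ _ _ P hP => ?_) q F (fun U s u => ?_) hq q le_rfl
  · obtain ⟨R, _, _, _, _, hS⟩ := exists_strict y
    obtain ⟨P, hP⟩ := Ideal.nonempty_minimalPrimes (I := (RingHom.ker (Cyc.specMap y x hxy)).map
      (algebraMap (X.presheaf.stalk y) R)) (fun h => (IsLocalRing.maximalIdeal.isMaximal R).ne_top
        (top_le_iff.1 (h.ge.trans (Ideal.map_le_iff_le_comap.2 ((IsLocalRing.le_maximalIdeal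
          (Ideal.IsPrime.ne_top inferInstance)).trans
            (le_of_eq (IsLocalRing.maximalIdeal_comap (f := algebraMap (X.presheaf.stalk y) R)).symm))))))
    obtain ⟨d, hd, -⟩ := h2 x y hxy hne R P hP
    omega
  · obtain ⟨d, hd, hcd⟩ := h2 x y hxy hne R P hP
    exact ⟨d, hd, (FieldTower.cohDimLEAt_iff hℓ).1 hcd⟩
  · obtain ⟨V, g, hv, a, h⟩ := hF U s u
    exact ⟨V, g, ℓ ^ a, hv, FinCovCrit.primesIn_pow hℓ a, h⟩

end Groth.L28.DimFun
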